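import Mathlib
import Cfsg.Agent.Lib.Helper99.CHO.Defs

/-!
# Team project CHO (S1082), package [IN-D4]

The model root elements `E_r(t)` of type `D4` lie in `Ω⁺₈(K)`: each is a commutator of two root
elements, `E_r(t) = [E_{r1}(1), E_{r2}(c t)]`.  The commutator identities are decided on the
integer tables and cast to `K`.
-/

set_option autoImplicit false
open scoped MatrixGroups

namespace Cfsg.Agent.Lib.Helper76.CHO

open Cfsg.Agent.Lib.Helper99.CHO Matrix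

universe u

/-- the integer root vectors -/
def nZ (r : ℕ) : Matrix (Fin 4 ⊕ Fin 4) (Fin 4 ⊕ Fin 4) ℤ :=
  Matrix.of fun i j => tab3 nListD4 r (ix8 i) (ix8 j)

/-- first factor of the commutator giving the root `r` -/
def c1 (r : ℕ) : ℕ :=
  [1, 0, 0, 0, 0, 1, 0, 0, 0, 0, 1, 1, 2, 3, 1, 2, 3, 4, 6, 6, 7, 8, 9, 14].getD r 0

/-- second factor of the commutator giving the root `r` -/
def c2 (r : ℕ) : ℕ :=
  [9, 14, 15, 16, 17, 17, 19, 20, 21, 22, 20, 21, 22, 22, 23, 23, 23, 23, 22, 23, 23, 23, 23,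
    22].getD r 0

/-- the sign of the commutator giving the root `r` -/
def cs (r : ℕ) : ℤ :=
  ([1, 1, -1, -1, 1, 1, -1, 1, 1, -1, -1, -1, -1, -1, -1, 1, 1, -1, 1, 1, -1, -1, 1, 1] :
    List ℤ).getD r 0

set_option maxRecDepth 100000 in
theorem c_lt : ∀ r : Fin 24, c1 r.val < 24 ∧ c2 r.val < 24 ∧ cs r.val * cs r.val = 1 := by
  decide

set_option maxRecDepth 100000 in
theorem nZ_sq1 : ∀ r : Fin 24, nZ (c1 r.val) * nZ (c1 r.val) = 0 := by decide

set_option maxRecDepth 100000 in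
theorem nZ_sq2 : ∀ r : Fin 24, nZ (c2 r.val) * nZ (c2 r.val) = 0 := by decide

set_option maxRecDepth 100000 in
theorem nZ_comm : ∀ r : Fin 24,
    nZ (c1 r.val) * nZ (c2 r.val) - nZ (c2 r.val) * nZ (c1 r.val) -
      nZ (c1 r.val) * nZ (c2 r.val) * nZ (c1 r.val) = cs r.val • nZ r.val := by
  decide

set_option maxRecDepth 100000 in
theorem nZ_tail : ∀ r : Fin 24,
    (nZ (c2 r.val) + nZ (c1 r.val) * nZ (c2 r.val) - nZ (c2 r.val) * nZ (c1 r.val) -
      nZ (c1 r.val) * nZ (c2 r.val) * nZ (c1 r.val)) * nZ (c2 r.val) = 0 := by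
  decide

/-- the ring identity behind the commutator formula -/
theorem comm_ring_id {R : Type u} [Ring R] (a b c : R) (h0 : a * a = 0)
    (h1 : a * b - b * a - a * b * a = c) (h2 : (b + a * b - b * a - a * b * a) * b = 0) :
    (1 + a) * (1 + b) * (1 - a) * (1 - b) = 1 + c := by
  linear_combination (norm := noncomm_ring) h1 - h0 + h0 * b - h2

section field

variable (K : Type u) [Field K]

theorem ND4_eq_map (r : ℕ) :
    ND4 K r = (Int.castRingHom K).mapMatrix (nZ r) := by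
  ext i j
  rfl

theorem ND4_sq1 (r : Fin 24) : ND4 K (c1 r.val) * ND4 K (c1 r.val) = 0 := by
  rw [ND4_eq_map, ← map_mul, nZ_sq1 r, map_zero]

theorem ND4_sq2 (r : Fin 24) : ND4 K (c2 r.val) * ND4 K (c2 r.val) = 0 := by
  rw [ND4_eq_map, ← map_mul, nZ_sq2 r, map_zero]

theorem ND4_comm (r : Fin 24) :
    ND4 K (c1 r.val) * ND4 K (c2 r.val) - ND4 K (c2 r.val) * ND4 K (c1 r.val) -
      ND4 K (c1 r.val) * ND4 K (c2 r.val) * ND4 K (c1 r.val) =
      ((cs r.val : ℤ) : K) • ND4 K r.val := by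
  have h := congrArg (Int.castRingHom K).mapMatrix (nZ_comm r)
  rw [map_sub, map_sub, map_mul, map_mul, map_mul, map_mul, map_zsmul] at h
  rw [ND4_eq_map, ND4_eq_map, ND4_eq_map, Int.cast_smul_eq_zsmul]
  exact h

theorem ND4_tail (r : Fin 24) :
    (ND4 K (c2 r.val) + ND4 K (c1 r.val) * ND4 K (c2 r.val) -
      ND4 K (c2 r.val) * ND4 K (c1 r.val) -
      ND4 K (c1 r.val) * ND4 K (c2 r.val) * ND4 K (c1 r.val)) * ND4 K (c2 r.val) = 0 := by
  have h := congrArg (Int.castRingHom K).mapMatrix (nZ_tail r)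
  rw [map_mul, map_sub, map_sub, map_add, map_mul, map_mul, map_mul, map_mul, map_zero] at h
  rw [ND4_eq_map, ND4_eq_map]
  exact h

/-- the commutator formula for the model root elements -/
theorem ED4mat_comm (r : Fin 24) (t : K) :
    ED4mat K (c1 r.val) 1 * ED4mat K (c2 r.val) (((cs r.val : ℤ) : K) * t) *
      ED4mat K (c1 r.val) (-1) * ED4mat K (c2 r.val) (-(((cs r.val : ℤ) : K) * t)) =
      ED4mat K r.val t := by
  unfold ED4mat
  have hcc : ((cs r.val : ℤ) : K) * ((cs r.val : ℤ) : K) = 1 := by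
    have h := (c_lt r).2.2
    have h' := congrArg (Int.cast : ℤ → K) h
    rwa [Int.cast_mul, Int.cast_one] at h'
  have h0 := ND4_sq1 K r
  have h1 := ND4_comm K r
  have h2 := ND4_tail K r
  generalize ((cs r.val : ℤ) : K) = c at hcc h1 ⊢
  generalize ND4 K (c1 r.val) = a at h0 h1 h2 ⊢
  generalize ND4 K (c2 r.val) = b at h1 h2 ⊢
  generalize ND4 K r.val = n at h1 ⊢
  have e1 : a * ((c * t) • b) = (c * t) • (a * b) := Matrix.mul_smul _ _ _
  have e2 : ((c * t) • b) * a = (c * t) • (b * a) := Matrix.smul_mul _ _ _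
  have h1' : a * ((c * t) • b) - ((c * t) • b) * a - a * ((c * t) • b) * a = t • n := by
    rw [e1, e2, Matrix.smul_mul, ← smul_sub, ← smul_sub, h1, smul_smul]
    congr 1
    linear_combination t * hcc
  have h2' : ((c * t) • b + a * ((c * t) • b) - ((c * t) • b) * a - a * ((c * t) • b) * a) *
      ((c * t) • b) = 0 := by
    rw [e1, e2, Matrix.smul_mul, ← smul_add, ← smul_sub, ← smul_sub, Matrix.smul_mul,
      Matrix.mul_smul, h2, smul_zero, smul_zero]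
  have h := comm_ring_id a ((c * t) • b) (t • n) h0 h1' h2'
  rw [one_smul, neg_smul, neg_smul, one_smul, ← sub_eq_add_neg, ← sub_eq_add_neg]
  exact h

/-- `E_r(s) E_r(-s) = 1` when `N_r² = 0`. -/
theorem ED4mat_mul_neg (r : ℕ) (s : K) (h0 : ND4 K r * ND4 K r = 0) :
    ED4mat K r s * ED4mat K r (-s) = 1 := by
  unfold ED4mat
  have hX : (s • ND4 K r) * (s • ND4 K r) = 0 := by
    rw [Matrix.smul_mul, Matrix.mul_smul, h0, smul_zero, smul_zero]
  have h1 : ∀ X : Matrix (Fin 4 ⊕ Fin 4) (Fin 4 ⊕ Fin 4) K, (1 + X) * (1 - X) = 1 - X * X := by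
    intro X
    noncomm_ring
  rw [neg_smul, ← sub_eq_add_neg, h1, hX, sub_zero]

end field

/-- **[IN-D4]** -/
theorem pkgInD4_of (hU : PkgUnitD4.{u}) (hI : PkgIsoD4.{u}) : PkgInD4.{u} := by
  intro K _ r t
  have hr : r.val < 24 := r.2
  obtain ⟨h1lt, h2lt, _⟩ := c_lt ⟨r.val, hr⟩
  have hval : ∀ (s : Fin Cfsg.Lie.chevD4.nroots) (x : K),
      ((ED4 K s x : GL (Fin 4 ⊕ Fin 4) K) : Matrix (Fin 4 ⊕ Fin 4) (Fin 4 ⊕ Fin 4) K) =
        ED4mat K s.val x := by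
    intro s x
    unfold ED4
    rw [dif_pos (hU K s.val x s.2)]
    exact IsUnit.unit_spec _
  have hmem : ∀ (s : Fin Cfsg.Lie.chevD4.nroots) (x : K),
      ED4 K s x ∈ Cfsg.isometryGroup K (Cfsg.quadFormPlus 4 K) := by
    intro s x v w
    show Cfsg.quadFormPlus 4 K
        (((ED4 K s x : GL (Fin 4 ⊕ Fin 4) K) : Matrix (Fin 4 ⊕ Fin 4) (Fin 4 ⊕ Fin 4) K) *ᵥ v) =
      Cfsg.quadFormPlus 4 K v
    rw [hval]
    exact hI K s.val x s.2 v
  have hinv : ∀ (s : Fin Cfsg.Lie.chevD4.nroots) (x : K), ND4 K s.val * ND4 K s.val = 0 →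
      (ED4 K s x)⁻¹ = ED4 K s (-x) := by
    intro s x h0
    apply inv_eq_of_mul_eq_one_right
    apply Units.ext
    rw [Units.val_mul, hval, hval, Units.val_one]
    exact ED4mat_mul_neg K s.val x h0
  have heq : ED4 K r t = ED4 K ⟨c1 r.val, h1lt⟩ 1 *
      ED4 K ⟨c2 r.val, h2lt⟩ (((cs r.val : ℤ) : K) * t) * (ED4 K ⟨c1 r.val, h1lt⟩ 1)⁻¹ *
      (ED4 K ⟨c2 r.val, h2lt⟩ (((cs r.val : ℤ) : K) * t))⁻¹ := by
    rw [hinv ⟨c1 r.val, h1lt⟩ 1 (ND4_sq1 K ⟨r.val, hr⟩),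
      hinv ⟨c2 r.val, h2lt⟩ _ (ND4_sq2 K ⟨r.val, hr⟩)]
    apply Units.ext
    rw [Units.val_mul, Units.val_mul, Units.val_mul, hval, hval, hval, hval, hval]
    exact (ED4mat_comm K ⟨r.val, hr⟩ t).symm
  rw [heq]
  let g1 : ↥(Cfsg.isometryGroup K (Cfsg.quadFormPlus 4 K)) :=
    ⟨ED4 K ⟨c1 r.val, h1lt⟩ 1, hmem _ _⟩
  let g2 : ↥(Cfsg.isometryGroup K (Cfsg.quadFormPlus 4 K)) :=
    ⟨ED4 K ⟨c2 r.val, h2lt⟩ (((cs r.val : ℤ) : K) * t), hmem _ _⟩
  refine ⟨g1 * g2 * g1⁻¹ * g2⁻¹, ?_, rfl⟩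
  exact Subgroup.commutator_mem_commutator (Subgroup.mem_top g1) (Subgroup.mem_top g2)

end Cfsg.Agent.Lib.Helper76.CHO
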